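import Mathlib
import Cfsg.Agent.Lib.Helper58.G2Syl.Defs
import Cfsg.Agent.Lib.Helper12.WrSyl.T2

set_option autoImplicit false

namespace Cfsg.Agent.Lib.Helper54.G2Syl

open Cfsg Cfsg.Lie Cfsg.Agent.Lib.Helper58.WrSyl Cfsg.Agent.Lib.Helper58.G2Syl
open scoped MatrixGroups commutatorElement
open Matrix.GeneralLinearGroup (scalar det)

/-- [C1] -/
theorem comm_fib {G₀ A : Type*} [Group G₀] [CommGroup A] (δ : G₀ →* A) (S : Subgroup G₀) (D : G₀)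
    (hD : D ∈ S) (hgen : ∀ s ∈ S, ∃ k : ℤ, δ s = δ D ^ k) (c : G₀) (hc : c ∈ ⁅S, S⁆) :
    ((c, 1) : G₀ × G₀) ∈ ⁅fibSub δ S, fibSub δ S⁆ ∧
      ((1, c) : G₀ × G₀) ∈ ⁅fibSub δ S, fibSub δ S⁆ := by
  have hcomm : ∀ k j : ℤ, ⁅D ^ k, D ^ j⁆ = 1 := by
    intro k j
    rw [commutatorElement_eq_one_iff_mul_comm]
    exact (Commute.zpow_zpow_self D k j).eq
  have h1 : ⁅S, S⁆ ≤ (⁅fibSub δ S, fibSub δ S⁆).comap (MonoidHom.inl G₀ G₀) := by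
    rw [Subgroup.commutator_le]
    intro s₁ hs₁ s₂ hs₂
    obtain ⟨k₁, hk₁⟩ := hgen s₁ hs₁
    obtain ⟨k₂, hk₂⟩ := hgen s₂ hs₂
    rw [Subgroup.mem_comap]
    have e : MonoidHom.inl G₀ G₀ ⁅s₁, s₂⁆ = ⁅((s₁, D ^ k₁) : G₀ × G₀), (s₂, D ^ k₂)⁆ := by
      apply Prod.ext
      · rfl
      · show (1 : G₀) = ⁅D ^ k₁, D ^ k₂⁆
        rw [hcomm]
    rw [e]
    exact Subgroup.commutator_mem_commutator
      ⟨hs₁, S.zpow_mem hD _, by simp [hk₁]⟩ ⟨hs₂, S.zpow_mem hD _, by simp [hk₂]⟩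
  have h2 : ⁅S, S⁆ ≤ (⁅fibSub δ S, fibSub δ S⁆).comap (MonoidHom.inr G₀ G₀) := by
    rw [Subgroup.commutator_le]
    intro s₁ hs₁ s₂ hs₂
    obtain ⟨k₁, hk₁⟩ := hgen s₁ hs₁
    obtain ⟨k₂, hk₂⟩ := hgen s₂ hs₂
    rw [Subgroup.mem_comap]
    have e : MonoidHom.inr G₀ G₀ ⁅s₁, s₂⁆ = ⁅((D ^ k₁, s₁) : G₀ × G₀), (D ^ k₂, s₂)⁆ := by
      apply Prod.ext
      · show (1 : G₀) = ⁅D ^ k₁, D ^ k₂⁆
        rw [hcomm]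
      · rfl
    rw [e]
    exact Subgroup.commutator_mem_commutator
      ⟨S.zpow_mem hD _, hs₁, by simp [hk₁]⟩ ⟨S.zpow_mem hD _, hs₂, by simp [hk₂]⟩
  exact ⟨h1 hc, h2 hc⟩

end Cfsg.Agent.Lib.Helper54.G2Syl
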